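import Mathlib
import Groth.Prelude.Def_GalDesc

set_option autoImplicit false
universe u v w x y

open scoped TensorProduct

namespace Groth.Agent.Desc8

variable {k : Type u} {K : Type v} [Field k] [Field K] [Algebra k K] [FiniteDimensional k K] [IsGalois k K]
variable {M : Type w} [AddCommGroup M] [Module K M] [Module k M] [IsScalarTower k K M]

local notation "Γ" => (K ≃ₐ[k] K)

/-- a semilinear action of the Galois group -/
structure SemiAction (k : Type u) (K : Type v) [Field k] [Field K] [Algebra k K] (M : Type w)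
    [AddCommGroup M] [Module K M] where
  T : (K ≃ₐ[k] K) → M → M
  add : ∀ σ x y, T σ (x + y) = T σ x + T σ y
  smul : ∀ σ (c : K) x, T σ (c • x) = σ c • T σ x
  mul : ∀ σ τ x, T (σ * τ) x = T σ (T τ x)
  one : ∀ x, T 1 x = x

lemma SemiAction.zero (S : SemiAction k K M) (σ : Γ) : S.T σ 0 = 0 := by
  simpa using S.smul σ 0 0

lemma SemiAction.sum (S : SemiAction k K M) (σ : Γ) {ι : Type*} (s : Finset ι) (f : ι → M) :
    S.T σ (∑ i ∈ s, f i) = ∑ i ∈ s, S.T σ (f i) := by
  classical
  induction s using Finset.induction_on with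
  | empty => simp [S.zero]
  | insert a s h ih => simp [Finset.sum_insert h, S.add, ih]

variable (S : SemiAction k K M) {W : Type x} [AddCommGroup W] [Module k W] (ι : W →ₗ[k] M)
  (hι : Function.Injective ι) (hW : ∀ m, m ∈ LinearMap.range ι ↔ ∀ σ, S.T σ m = m)

/-- `c ⊗ w ↦ c • ι w` -/
noncomputable def descLin : K ⊗[k] W →ₗ[K] M :=
  (TensorProduct.isBaseChange k W K).lift ι

omit [FiniteDimensional k K] [IsGalois k K] in
lemma descLin_tmul (c : K) (w : W) : descLin (K := K) ι (c ⊗ₜ w) = c • ι w := by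
  have : c ⊗ₜ[k] w = c • ((1 : K) ⊗ₜ[k] w) := by rw [TensorProduct.smul_tmul', smul_eq_mul, mul_one]
  rw [this, map_smul]
  congr 1
  exact IsBaseChange.lift_eq _ _ _

include hW in
theorem descLin_surjective : Function.Surjective (descLin (K := K) ι) := by
  classical
  haveI : Fintype Γ := Fintype.ofFinite _
  let b := Module.finBasis k K
  let u : Fin (Module.finrank k K) → (Γ → K) := fun i σ => σ (b i)
  have hspan : Submodule.span K (Set.range u) = ⊤ := by
    by_contra hne
    obtain ⟨φ, hφ, hφs⟩ := Submodule.exists_dual_map_eq_bot_of_lt_top (lt_top_iff_ne_top.mpr hne) inferInstance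
    let xs : Γ → K := fun σ => φ (Pi.single σ 1)
    have hx : ∀ f : Γ → K, φ f = ∑ σ, f σ * xs σ := fun f => by
      conv_lhs => rw [show f = ∑ σ, f σ • (Pi.single σ (1 : K) : Γ → K) from funext fun τ => by simp [Pi.single_apply]]
      simp [xs]
    have hzero : ∀ i, ∑ σ, σ (b i) * xs σ = 0 := fun i => by
      have : φ (u i) ∈ Submodule.map φ (Submodule.span K (Set.range u)) :=
        ⟨u i, Submodule.subset_span ⟨i, rfl⟩, rfl⟩
      rw [hφs, Submodule.mem_bot, hx] at this
      exact this
    have hli : LinearIndependent K (fun σ : Γ => (σ : K →* K) : Γ → K → K) :=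
      (linearIndependent_monoidHom K K).comp (fun σ : Γ => (σ : K →* K)) fun σ τ h =>
        AlgEquiv.ext fun z => congrArg (fun f : K →* K => f z) h
    have hall : ∀ z : K, ∑ σ, σ z * xs σ = 0 := fun z => by
      have hz : z = ∑ i, b.repr z i • b i := (b.sum_repr z).symm
      rw [hz]
      simp only [map_sum, map_smul, Finset.sum_mul, Algebra.smul_mul_assoc]
      rw [Finset.sum_comm]
      simp [← Finset.smul_sum, hzero]
    have h0 := Fintype.linearIndependent_iff.mp hli xs (funext fun z => by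
      simpa [mul_comm] using hall z)
    exact hφ (LinearMap.ext fun f => by rw [hx]; simp [h0])
  intro m
  let t : K → M := fun c => ∑ σ : Γ, σ c • S.T σ m
  have ht : ∀ c, t c ∈ LinearMap.range ι := fun c => (hW _).mpr fun τ => by
    simp only [t, S.sum, S.smul, ← S.mul]
    exact Fintype.sum_equiv (Equiv.mulLeft τ) _ _ fun σ => rfl
  obtain ⟨e, he⟩ := (Submodule.mem_span_range_iff_exists_fun K).mp
    (hspan ▸ Submodule.mem_top : (Pi.single 1 1 : Γ → K) ∈ Submodule.span K (Set.range u))
  choose w hw using ht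
  refine ⟨∑ i, e i ⊗ₜ w (b i), ?_⟩
  simp only [map_sum, descLin_tmul, hw, t, Finset.smul_sum, smul_smul]
  rw [Finset.sum_comm]
  simp only [← Finset.sum_smul]
  have h2 : ∀ σ : Γ, ∑ i, e i * σ (b i) = (Pi.single 1 1 : Γ → K) σ := fun σ => by
    have := congrFun he σ
    simpa [u] using this
  simp only [h2]
  rw [Finset.sum_eq_single 1]
  · simp [S.one]
  · intro σ _ hσ; simp [hσ]
  · simp

include hι hW in
theorem descLin_injective : Function.Injective (descLin (K := K) ι) := by
  classical
  haveI : Fintype Γ := Fintype.ofFinite _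
  rw [injective_iff_map_eq_zero]
  intro z hz
  obtain ⟨J, b⟩ : Σ J : Type x, Module.Basis J k W := ⟨_, Module.Free.chooseBasis k W⟩
  let bK : Module.Basis J K (K ⊗[k] W) := Algebra.TensorProduct.basis K b
  have hzsum : z = (bK.repr z).sum fun j c => c ⊗ₜ b j := by
    conv_lhs => rw [← bK.linearCombination_repr z]
    rw [Finsupp.linearCombination_apply]
    refine Finsupp.sum_congr fun j _ => ?_
    simp [bK, TensorProduct.smul_tmul']
  have h0 : ∑ j ∈ (bK.repr z).support, bK.repr z j • ι (b j) = 0 := by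
    rw [hzsum, Finsupp.sum, map_sum] at hz
    simpa [descLin_tmul] using hz
  have htr : ∀ y : K, ∑ j ∈ (bK.repr z).support, Algebra.trace k K (y * bK.repr z j) • b j = 0 := by
    intro y
    apply hι
    rw [map_sum, map_zero]
    simp only [map_smul]
    have h1 : ∀ σ : Γ, ∑ j ∈ (bK.repr z).support, σ (y * bK.repr z j) • ι (b j) = 0 := fun σ => by
      have := congrArg (S.T σ) (congrArg (fun m => y • m) h0)
      simp only [Finset.smul_sum, smul_smul, S.sum, S.smul, smul_zero, S.zero] at this
      rw [← this]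
      exact Finset.sum_congr rfl fun j _ => by rw [(hW _).mp ⟨b j, rfl⟩ σ]
    calc ∑ j ∈ (bK.repr z).support, Algebra.trace k K (y * bK.repr z j) • ι (b j)
        = ∑ j ∈ (bK.repr z).support, ∑ σ : Γ, σ (y * bK.repr z j) • ι (b j) :=
          Finset.sum_congr rfl fun j _ => by
            rw [← algebraMap_smul K (Algebra.trace k K (y * bK.repr z j)) (ι (b j)),
              trace_eq_sum_automorphisms, Finset.sum_smul]
            refine Finset.sum_congr ?_ fun _ _ => rfl
            ext; simp
      _ = 0 := by rw [Finset.sum_comm]; exact Finset.sum_eq_zero fun σ _ => h1 σ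
  have hc : ∀ j, bK.repr z j = 0 := by
    intro j
    by_contra hj
    have hjs : j ∈ (bK.repr z).support := Finsupp.mem_support_iff.mpr hj
    refine hj ((traceForm_nondegenerate k K).2 _ fun y => ?_)
    exact linearIndependent_iff'.mp b.linearIndependent _ _ (htr y) j hjs
  exact bK.repr.injective (by ext j; simpa using hc j)

/-- Galois descent: `K ⊗ W ≅ M` for `W` the fixed vectors. -/
noncomputable def descEquiv : K ⊗[k] W ≃ₗ[K] M :=
  LinearEquiv.ofBijective (descLin (K := K) ι) ⟨descLin_injective S ι hι hW, descLin_surjective S ι hW⟩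

lemma descEquiv_tmul (c : K) (w : W) : descEquiv S ι hι hW (c ⊗ₜ w) = c • ι w := descLin_tmul ι c w

lemma descEquiv_smul (σ : Γ) (z : K ⊗[k] W) :
    descEquiv S ι hι hW (σ • z) = S.T σ (descEquiv S ι hι hW z) := by
  induction z using TensorProduct.induction_on with
  | zero => simp [S.zero]
  | tmul c w =>
    rw [TensorProduct.smul_tmul', descEquiv_tmul, descEquiv_tmul, S.smul, (hW _).mp ⟨w, rfl⟩ σ]
    rfl
  | add a b ha hb => rw [smul_add, map_add, map_add, S.add, ha, hb]

omit [AddCommGroup M] [Module K M] [Module k M] [IsScalarTower k K M] in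
/-- the fixed vectors of `K ⊗ W` are `1 ⊗ W` -/
theorem fixed_tensor {W : Type x} [AddCommGroup W] [Module k W] (z : K ⊗[k] W) (hz : ∀ σ : Γ, σ • z = z) :
    ∃ w : W, (1 : K) ⊗ₜ w = z := by
  classical
  obtain ⟨J, b⟩ : Σ J : Type x, Module.Basis J k W := ⟨_, Module.Free.chooseBasis k W⟩
  let bK : Module.Basis J K (K ⊗[k] W) := Algebra.TensorProduct.basis K b
  have hzsum : z = (bK.repr z).sum fun j c => c ⊗ₜ b j := by
    conv_lhs => rw [← bK.linearCombination_repr z]
    rw [Finsupp.linearCombination_apply]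
    refine Finsupp.sum_congr fun j _ => ?_
    simp [bK, TensorProduct.smul_tmul']
  have hfix : ∀ j (σ : Γ), σ (bK.repr z j) = bK.repr z j := by
    intro j σ
    have h1 : σ • z = (bK.repr z).sum fun j c => σ c • bK j := by
      conv_lhs => rw [hzsum]
      simp only [Finsupp.sum, Finset.smul_sum]
      refine Finset.sum_congr rfl fun i _ => ?_
      simp [bK, TensorProduct.smul_tmul']
    rw [hz σ] at h1
    have h2 := congrArg (fun m => bK.repr m j) h1
    simp only [Finsupp.sum, map_sum, map_smul, Module.Basis.repr_self, Finsupp.smul_single, smul_eq_mul, mul_one,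
      Finsupp.finsetSum_apply, Finsupp.single_apply, Finset.sum_ite_eq'] at h2
    by_cases hj : j ∈ (bK.repr z).support
    · rw [if_pos hj] at h2; exact h2.symm
    · simp [Finsupp.notMem_support_iff.mp hj]
  choose r hr using fun j => Algebra.IsInvariant.isInvariant (A := k) (B := K) (G := Γ) (bK.repr z j) (hfix j)
  refine ⟨∑ j ∈ (bK.repr z).support, r j • b j, ?_⟩
  conv_rhs => rw [hzsum]
  rw [TensorProduct.tmul_sum, Finsupp.sum]
  refine Finset.sum_congr rfl fun j _ => ?_
  rw [TensorProduct.tmul_smul, TensorProduct.smul_tmul', Algebra.smul_def, mul_one, hr]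

omit [AddCommGroup M] [Module K M] [Module k M] [IsScalarTower k K M] [FiniteDimensional k K] [IsGalois k K] in
theorem one_tmul_injective {W : Type x} [AddCommGroup W] [Module k W] :
    Function.Injective fun w : W => (1 : K) ⊗ₜ[k] w := by
  intro a b h
  obtain ⟨π, hπ⟩ := LinearMap.exists_leftInverse_of_injective (Algebra.linearMap k K)
    (LinearMap.ker_eq_bot.mpr (algebraMap k K).injective)
  have h1 : π 1 = 1 := by simpa using LinearMap.congr_fun hπ 1
  have := congrArg (TensorProduct.lid k W ∘ LinearMap.rTensor W π) h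
  simpa [h1] using this

/-- An equivariant isomorphism of base changes descends. -/
theorem descendEquiv {W : Type x} [AddCommGroup W] [Module k W] {W' : Type y} [AddCommGroup W'] [Module k W']
    (h : K ⊗[k] W ≃ₗ[K] K ⊗[k] W') (hh : ∀ (σ : Γ) z, h (σ • z) = σ • h z) :
    ∃ e : W ≃ₗ[k] W', ∀ w, h ((1 : K) ⊗ₜ w) = (1 : K) ⊗ₜ e w := by
  have hfix : ∀ w, ∀ σ : Γ, σ • h ((1 : K) ⊗ₜ[k] w) = h ((1 : K) ⊗ₜ[k] w) := fun w σ => by
    rw [← hh, TensorProduct.smul_tmul', smul_one]
  have hfix' : ∀ w', ∀ σ : Γ, σ • h.symm ((1 : K) ⊗ₜ[k] w') = h.symm ((1 : K) ⊗ₜ[k] w') := fun w' σ => by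
    apply h.injective
    rw [hh, h.apply_symm_apply, TensorProduct.smul_tmul', smul_one]
  choose f hf using fun w => fixed_tensor _ (hfix w)
  choose f' hf' using fun w' => fixed_tensor _ (hfix' w')
  have hinjW' : Function.Injective fun w : W' => (1 : K) ⊗ₜ[k] w :=
    one_tmul_injective
  have hinjW : Function.Injective fun w : W => (1 : K) ⊗ₜ[k] w :=
    one_tmul_injective
  refine ⟨{ toFun := f, invFun := f'
            map_add' := fun a b => hinjW' (by simp only [hf, TensorProduct.tmul_add, map_add])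
            map_smul' := fun r a => hinjW' (by
              simp only [hf, RingHom.id_apply, TensorProduct.tmul_smul]; exact h.toLinearMap.map_smul_of_tower r _)
            left_inv := fun w => hinjW (by simp only [hf', hf, h.symm_apply_apply])
            right_inv := fun w => hinjW' (by simp only [hf, hf', h.apply_symm_apply]) }, fun w => (hf w).symm⟩

section Twist

variable [DistribMulAction (K ≃ₐ[k] K) M] [SMulDistribClass (K ≃ₐ[k] K) K M]

/-- the twisted action of a cocycle -/
def twist (a : GpH1.OneCocycle Γ (M ≃ₗ[K] M)) : SemiAction k K M where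
  T σ m := a σ (σ • m)
  add σ m n := by rw [smul_add, map_add]
  smul σ c m := by rw [smul_distrib_smul, map_smul, AlgEquiv.smul_def]
  mul σ τ m := by
    rw [a.2 σ τ]
    show a σ ((σ • a τ) ((σ * τ) • m)) = a σ (σ • a τ (τ • m))
    rw [GalDesc.conj_smul_apply, mul_smul, inv_smul_smul]
  one m := by
    have h := a.2 1 1
    rw [one_smul, mul_one, left_eq_mul] at h
    rw [one_smul, h]; rfl

omit [FiniteDimensional k K] [IsGalois k K] in
lemma mem_fixedSub_iff (a : GpH1.OneCocycle Γ (M ≃ₗ[K] M)) (m : M) :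
    m ∈ GalDesc.fixedSub a ↔ ∀ σ, (twist a).T σ m = m := Iff.rfl

theorem twist_descend {W : Type x} [AddCommGroup W] [Module k W] (a : GpH1.OneCocycle Γ (M ≃ₗ[K] M))
    (ι : W →ₗ[k] M) (hι : Function.Injective ι) (hW : LinearMap.range ι = GalDesc.fixedSub a) :
    ∃ g : M ≃ₗ[K] K ⊗[k] W, (∀ (c : K) (w : W), g.symm (c ⊗ₜ w) = c • ι w) ∧ GalDesc.cocycle k g = a := by
  have hW' : ∀ m, m ∈ LinearMap.range ι ↔ ∀ σ, (twist a).T σ m = m := fun m => by rw [hW]; rfl
  let e := descEquiv (twist a) ι hι hW'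
  refine ⟨e.symm, fun c w => descEquiv_tmul (twist a) ι hι hW' c w, GpH1.OneCocycle.ext fun σ => LinearEquiv.ext fun m => ?_⟩
  rw [GalDesc.cocycle_apply]
  show e (σ • e.symm (σ⁻¹ • m)) = _
  rw [descEquiv_smul, e.apply_symm_apply]
  show a σ (σ • σ⁻¹ • m) = a σ m
  rw [smul_inv_smul]

theorem equivariant_of_cohomologous {N : Type x} [AddCommGroup N] [Module K N] [DistribMulAction (K ≃ₐ[k] K) N]
    [SMulDistribClass (K ≃ₐ[k] K) K N] {N' : Type y} [AddCommGroup N'] [Module K N'] [DistribMulAction (K ≃ₐ[k] K) N']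
    [SMulDistribClass (K ≃ₐ[k] K) K N'] (g : M ≃ₗ[K] N) (g' : M ≃ₗ[K] N') (c : M ≃ₗ[K] M)
    (hc : ∀ σ : (K ≃ₐ[k] K), GalDesc.cocycle k g σ = c⁻¹ * GalDesc.cocycle k g' σ * σ • c) (σ : (K ≃ₐ[k] K)) (z : N) :
    g' (c (g.symm (σ • z))) = σ • g' (c (g.symm z)) := by
  obtain ⟨m, rfl⟩ := g.surjective z
  have h := LinearEquiv.congr_fun (hc σ) (σ • m)
  rw [GalDesc.cocycle_apply, inv_smul_smul] at h
  rw [h]
  show g' (c (c.symm (GalDesc.cocycle k g' σ ((σ • c) (σ • m))))) = _
  rw [c.apply_symm_apply, GalDesc.cocycle_apply, GalDesc.conj_smul_apply, inv_smul_smul, inv_smul_smul,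
    g'.apply_symm_apply, g.symm_apply_apply]

end Twist

end Groth.Agent.Desc8
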