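import Groth.Agent.Desc8.Basic
import Groth.Prelude.Def_GSzCSA

set_option autoImplicit false
universe u v w x y

open scoped TensorProduct

namespace Groth.Agent.Desc8

variable (k : Type u) [Field k] (K : Type v) [Field K] [Algebra k K] [FiniteDimensional k K] [IsGalois k K]

local notation "Γ" => (K ≃ₐ[k] K)

theorem endo_descent (V : Type w) [AddCommGroup V] [Module k V] (φ : V →ₗ[k] V)
    (a : GpH1.OneCocycle (K ≃ₐ[k] K) (K ⊗[k] V ≃ₗ[K] K ⊗[k] V))
    (ha : ∀ (σ : K ≃ₐ[k] K) (x : K ⊗[k] V), a σ (φ.baseChange K x) = φ.baseChange K (a σ x))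
    (W : Type x) [AddCommGroup W] [Module k W] (ι : W →ₗ[k] K ⊗[k] V) (hι : Function.Injective ι)
    (hW : LinearMap.range ι = GalDesc.fixedSub a) :
    ∃ (ψ : W →ₗ[k] W) (g : K ⊗[k] V ≃ₗ[K] K ⊗[k] W),
      (∀ w, ι (ψ w) = φ.baseChange K (ι w)) ∧
      (∀ x, g (φ.baseChange K x) = ψ.baseChange K (g x)) ∧
      (∀ (c : K) (x : W), g.symm (c ⊗ₜ[k] x) = c • ι x) ∧
      GalDesc.cocycle k g = a := by
  have hφσ : ∀ (σ : Γ) (x : K ⊗[k] V), σ • φ.baseChange K x = φ.baseChange K (σ • x) := fun σ x => by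
    induction x using TensorProduct.induction_on with
    | zero => simp
    | tmul c v => simp [TensorProduct.smul_tmul']
    | add p q hp hq => simp [smul_add, hp, hq]
  have hmem : ∀ w, φ.baseChange K (ι w) ∈ LinearMap.range ι := fun w => by
    rw [hW]
    intro σ
    have h := (hW.le ⟨w, rfl⟩) σ
    rw [hφσ, ha, h]
  choose ψ hψ using hmem
  obtain ⟨g, hg1, hg2⟩ := twist_descend a ι hι hW
  refine ⟨{ toFun := ψ
            map_add' := fun p q => hι (by simp [hψ])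
            map_smul' := fun r p => hι (by simp [hψ]) }, g, hψ, fun x => ?_, hg1, hg2⟩
  obtain ⟨z, rfl⟩ := g.symm.surjective x
  apply g.symm.injective
  rw [LinearEquiv.symm_apply_apply, LinearEquiv.apply_symm_apply]
  induction z using TensorProduct.induction_on with
  | zero => simp
  | tmul c w => simp [hg1, hψ]
  | add p q hp hq => simp [hp, hq]

theorem endo_unique (V : Type w) [AddCommGroup V] [Module k V] (φ : V →ₗ[k] V)
    (W : Type x) [AddCommGroup W] [Module k W] (ψ : W →ₗ[k] W)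
    (W' : Type y) [AddCommGroup W'] [Module k W'] (ψ' : W' →ₗ[k] W')
    (g : K ⊗[k] V ≃ₗ[K] K ⊗[k] W) (hg : ∀ x, g (φ.baseChange K x) = ψ.baseChange K (g x))
    (g' : K ⊗[k] V ≃ₗ[K] K ⊗[k] W') (hg' : ∀ x, g' (φ.baseChange K x) = ψ'.baseChange K (g' x))
    (h : ∃ c : K ⊗[k] V ≃ₗ[K] K ⊗[k] V, (∀ x, c (φ.baseChange K x) = φ.baseChange K (c x)) ∧
      ∀ σ : K ≃ₐ[k] K, GalDesc.cocycle k g σ = c⁻¹ * GalDesc.cocycle k g' σ * σ • c) :
    ∃ e : W ≃ₗ[k] W', ∀ w, e (ψ w) = ψ' (e w) := by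
  obtain ⟨c, hcφ, hc⟩ := h
  obtain ⟨e, he⟩ := descendEquiv (g.symm.trans (c.trans g')) (fun σ z => equivariant_of_cohomologous g g' c hc σ z)
  refine ⟨e, fun w => one_tmul_injective (k := k) (K := K) ?_⟩
  show (1 : K) ⊗ₜ[k] e (ψ w) = (1 : K) ⊗ₜ[k] ψ' (e w)
  rw [← LinearMap.baseChange_tmul ψ' (1 : K) (e w), ← he, ← he]
  show g' (c (g.symm ((1 : K) ⊗ₜ ψ w))) = ψ'.baseChange K (g' (c (g.symm ((1 : K) ⊗ₜ w))))
  rw [← hg', ← hcφ]
  congr 2
  apply g.injective
  rw [hg, g.apply_symm_apply, g.apply_symm_apply, LinearMap.baseChange_tmul]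

section Bilin
attribute [local instance] GpH1.subgroupAction

theorem bilin_descent (V : Type w) [AddCommGroup V] [Module k V] (Φ : LinearMap.BilinForm k V)
    (a : GpH1.OneCocycle (K ≃ₐ[k] K) (GalDesc.isomGrp (Φ.baseChange K)))
    (W : Type x) [AddCommGroup W] [Module k W] (ι : W →ₗ[k] K ⊗[k] V) (hι : Function.Injective ι)
    (hW : LinearMap.range ι = GalDesc.fixedSub (a.map (GalDesc.isomGrp (Φ.baseChange K)).subtype (fun _ _ => rfl))) :
    ∃ (Ψ : LinearMap.BilinForm k W) (g : (Φ.baseChange K).IsometryEquiv (Ψ.baseChange K)),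
      (∀ x y : W, algebraMap k K (Ψ x y) = Φ.baseChange K (ι x) (ι y)) ∧
      (∀ (c : K) (x : W), (g : K ⊗[k] V ≃ₗ[K] K ⊗[k] W).symm (c ⊗ₜ[k] x) = c • ι x) ∧
      GalDesc.cocycleIsom k g = a := by
  obtain ⟨g, hg1, hg2⟩ := twist_descend _ ι hι hW
  have hfix : ∀ (p q : W) (σ : Γ), σ (Φ.baseChange K (ι p) (ι q)) = Φ.baseChange K (ι p) (ι q) := by
    intro p q σ
    have hp := (hW.le ⟨p, rfl⟩) σ
    have hq := (hW.le ⟨q, rfl⟩) σ
    have h1 := (a σ).2 (σ • ι p) (σ • ι q)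
    conv_rhs => rw [← hp, ← hq]
    show σ • Φ.baseChange K (ι p) (ι q) = _
    rw [← GalDesc.IsGalInv.smul_app σ (ι p) (ι q)]
    exact h1.symm
  choose r hr using fun p q => Algebra.IsInvariant.isInvariant (A := k) (B := K) (G := Γ) _ (hfix p q)
  have hinj := (algebraMap k K).injective
  let Ψ : LinearMap.BilinForm k W := LinearMap.mk₂ k r
    (fun p p' q => hinj (by simp [hr]))
    (fun c p q => hinj (by rw [smul_eq_mul, map_mul, hr, hr, map_smul, LinearMap.BilinForm.smul_left_of_tower, Algebra.smul_def]))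
    (fun p q q' => hinj (by simp [hr]))
    (fun c p q => hinj (by rw [smul_eq_mul, map_mul, hr, hr, map_smul, LinearMap.BilinForm.smul_right_of_tower, Algebra.smul_def]))
  refine ⟨Ψ, { g with map_app' := fun u v => ?_ }, fun p q => by simp [Ψ, hr], hg1, ?_⟩
  · obtain ⟨u', rfl⟩ := g.symm.surjective u
    obtain ⟨v', rfl⟩ := g.symm.surjective v
    show Ψ.baseChange K (g (g.symm u')) (g (g.symm v')) = _
    rw [g.apply_symm_apply, g.apply_symm_apply]
    induction u' using TensorProduct.induction_on with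
    | zero => simp
    | tmul c p =>
      induction v' using TensorProduct.induction_on with
      | zero => simp
      | tmul d q =>
        rw [LinearMap.BilinForm.baseChange_tmul, hg1, hg1, LinearMap.BilinForm.smul_left,
          LinearMap.BilinForm.smul_right, ← hr, Algebra.smul_def]
        simp [Ψ]; ring
      | add s t hs ht => simp [hs, ht]
    | add s t hs ht => simp [hs, ht]
  · refine GpH1.OneCocycle.ext fun σ => Subtype.ext ?_
    show GalDesc.cocycle k g σ = _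
    rw [hg2]; rfl

theorem bilin_unique (V : Type w) [AddCommGroup V] [Module k V] (Φ : LinearMap.BilinForm k V)
    (W : Type x) [AddCommGroup W] [Module k W] (Ψ : LinearMap.BilinForm k W)
    (W' : Type y) [AddCommGroup W'] [Module k W'] (Ψ' : LinearMap.BilinForm k W')
    (g : (Φ.baseChange K).IsometryEquiv (Ψ.baseChange K))
    (g' : (Φ.baseChange K).IsometryEquiv (Ψ'.baseChange K))
    (h : (GalDesc.cocycleIsom k g).cl = (GalDesc.cocycleIsom k g').cl) :
    Ψ.Equivalent Ψ' := by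
  rw [GpH1.OneCocycle.cl_eq_cl_iff] at h
  obtain ⟨c, hc⟩ := h
  let gl : K ⊗[k] V ≃ₗ[K] K ⊗[k] W := g
  let gl' : K ⊗[k] V ≃ₗ[K] K ⊗[k] W' := g'
  have hc' : ∀ σ : Γ, GalDesc.cocycle k gl σ = (c : K ⊗[k] V ≃ₗ[K] K ⊗[k] V)⁻¹ * GalDesc.cocycle k gl' σ * σ • (c : K ⊗[k] V ≃ₗ[K] K ⊗[k] V) :=
    fun σ => congrArg Subtype.val (hc σ)
  obtain ⟨e, he⟩ := descendEquiv (gl.symm.trans ((c : K ⊗[k] V ≃ₗ[K] K ⊗[k] V).trans gl'))
    (fun σ z => equivariant_of_cohomologous gl gl' _ hc' σ z)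
  refine ⟨{ e with map_app' := fun p q => (algebraMap k K).injective ?_ }⟩
  have hb : ∀ (U : LinearMap.BilinForm k W') (p q : W'), algebraMap k K (U p q) = U.baseChange K ((1 : K) ⊗ₜ p) ((1 : K) ⊗ₜ q) := by
    intro U p q; simp [LinearMap.BilinForm.baseChange_tmul, Algebra.smul_def]
  have hb' : algebraMap k K (Ψ p q) = Ψ.baseChange K ((1 : K) ⊗ₜ p) ((1 : K) ⊗ₜ q) := by
    simp [LinearMap.BilinForm.baseChange_tmul, Algebra.smul_def]
  show algebraMap k K (Ψ' (e p) (e q)) = algebraMap k K (Ψ p q)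
  rw [hb, hb', ← he, ← he]
  show Ψ'.baseChange K (g' ((c : K ⊗[k] V ≃ₗ[K] K ⊗[k] V) (gl.symm _))) (g' ((c : K ⊗[k] V ≃ₗ[K] K ⊗[k] V) (gl.symm _))) = _
  rw [g'.map_app, c.2]
  exact g.symm.map_app _ _

end Bilin

section Alg
attribute [local instance] CSAGal.tensorAction

theorem alg_descent (A : Type w) [Ring A] [Algebra k A]
    (a : GpH1.OneCocycle (K ≃ₐ[k] K) ((K ⊗[k] A) ≃ₐ[K] (K ⊗[k] A)))
    (B : Type x) [Ring B] [Algebra k B] (ι : B →ₐ[k] K ⊗[k] A) (hι : Function.Injective ι)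
    (hB : ∀ x : K ⊗[k] A, x ∈ ι.range ↔ ∀ σ : K ≃ₐ[k] K, a σ (σ • x) = x) :
    ∃ g : (K ⊗[k] A) ≃ₐ[K] (K ⊗[k] B),
      (∀ (c : K) (b : B), g.symm (c ⊗ₜ[k] b) = c • ι b) ∧ GalDesc.cocycleAlg k g = a := by
  let S : SemiAction k K (K ⊗[k] A) :=
    { T := fun σ m => a σ (σ • m)
      add := fun σ m n => by rw [smul_add, map_add]
      smul := fun σ c m => by rw [smul_distrib_smul, map_smul, AlgEquiv.smul_def]
      mul := fun σ τ m => by
        rw [a.2 σ τ]
        show a σ ((σ • a τ) ((σ * τ) • m)) = a σ (σ • a τ (τ • m))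
        rw [GalDesc.conjAlg_smul_apply, mul_smul, inv_smul_smul]
      one := fun m => by
        have h := a.2 1 1
        rw [one_smul, mul_one, left_eq_mul] at h
        rw [one_smul, h]; rfl }
  have hW : ∀ m, m ∈ LinearMap.range ι.toLinearMap ↔ ∀ σ, S.T σ m = m := fun m => hB m
  let f : K ⊗[k] B →ₐ[K] K ⊗[k] A :=
    Algebra.TensorProduct.lift (Algebra.ofId K _) ι (fun c b => Algebra.commutes c (ι b))
  have hf : ∀ z, f z = descEquiv S ι.toLinearMap hι hW z := fun z => by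
    induction z using TensorProduct.induction_on with
    | zero => simp
    | tmul c b => rw [descEquiv_tmul, Algebra.TensorProduct.lift_tmul, Algebra.smul_def]; rfl
    | add p q hp hq => rw [map_add, map_add, hp, hq]
  have hbij : Function.Bijective f := by
    rw [show (f : K ⊗[k] B → K ⊗[k] A) = descEquiv S ι.toLinearMap hι hW from funext hf]
    exact LinearEquiv.bijective _
  refine ⟨(AlgEquiv.ofBijective f hbij).symm, fun c b => ?_, GpH1.OneCocycle.ext fun σ => AlgEquiv.ext fun m => ?_⟩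
  · rw [AlgEquiv.symm_symm]
    show f (c ⊗ₜ b) = _
    rw [hf, descEquiv_tmul]; rfl
  · rw [GalDesc.cocycleAlg_apply, AlgEquiv.symm_symm]
    show f (σ • (AlgEquiv.ofBijective f hbij).symm (σ⁻¹ • m)) = _
    rw [hf, descEquiv_smul, ← hf]
    show S.T σ (AlgEquiv.ofBijective f hbij ((AlgEquiv.ofBijective f hbij).symm (σ⁻¹ • m))) = _
    rw [AlgEquiv.apply_symm_apply]
    show a σ (σ • σ⁻¹ • m) = a σ m
    rw [smul_inv_smul]

theorem alg_unique (A : Type w) [Ring A] [Algebra k A]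
    (A' : Type x) [Ring A'] [Algebra k A'] (A'' : Type y) [Ring A''] [Algebra k A'']
    (g : (K ⊗[k] A) ≃ₐ[K] (K ⊗[k] A')) (g' : (K ⊗[k] A) ≃ₐ[K] (K ⊗[k] A''))
    (h : (GalDesc.cocycleAlg k g).cl = (GalDesc.cocycleAlg k g').cl) :
    Nonempty (A' ≃ₐ[k] A'') := by
  rw [GpH1.OneCocycle.cl_eq_cl_iff] at h
  obtain ⟨c, hc⟩ := h
  have hequiv : ∀ (σ : Γ) z, g' (c (g.symm (σ • z))) = σ • g' (c (g.symm z)) := by
    intro σ z
    obtain ⟨m, rfl⟩ := g.surjective z
    have h1 := AlgEquiv.congr_fun (hc σ) (σ • m)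
    rw [GalDesc.cocycleAlg_apply, inv_smul_smul] at h1
    rw [h1]
    show g' (c (c.symm (GalDesc.cocycleAlg k g' σ ((σ • c) (σ • m))))) = _
    rw [c.apply_symm_apply, GalDesc.cocycleAlg_apply, GalDesc.conjAlg_smul_apply, inv_smul_smul, inv_smul_smul,
      g'.apply_symm_apply, g.symm_apply_apply]
  obtain ⟨e, he⟩ := descendEquiv ((g.symm.trans (c.trans g')).toLinearEquiv) (fun σ z => hequiv σ z)
  refine ⟨AlgEquiv.ofLinearEquiv e ?_ fun p q => ?_⟩
  · apply one_tmul_injective (k := k) (K := K)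
    show (1 : K) ⊗ₜ[k] e 1 = (1 : K) ⊗ₜ[k] (1 : A'')
    rw [← he]
    exact map_one (g.symm.trans (c.trans g'))
  · apply one_tmul_injective (k := k) (K := K)
    show (1 : K) ⊗ₜ[k] e (p * q) = (1 : K) ⊗ₜ[k] (e p * e q)
    rw [← he, show (1 : K) ⊗ₜ[k] (e p * e q) = ((1 : K) ⊗ₜ[k] e p) * ((1 : K) ⊗ₜ[k] e q) by simp,
      ← he, ← he, show (1 : K) ⊗ₜ[k] (p * q) = ((1 : K) ⊗ₜ[k] p) * ((1 : K) ⊗ₜ[k] q) by simp]
    exact map_mul (g.symm.trans (c.trans g')) _ _

end Alg

section GLn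
attribute [local instance] CSAGal.matrixAction GpH1.unitsAction

theorem gl_trivial (n : ℕ) : GpH1.H1.IsTrivial (K ≃ₐ[k] K) (GL (Fin n) K) := by
  classical
  intro x
  obtain ⟨a, rfl⟩ := GpH1.OneCocycle.cl_surjective x
  rw [GpH1.H1.pt, GpH1.OneCocycle.cl_eq_cl_iff]
  let S : SemiAction k K (Fin n → K) :=
    { T := fun σ v => (a σ : Matrix (Fin n) (Fin n) K).mulVec (fun i => σ (v i))
      add := fun σ v w => by rw [← Matrix.mulVec_add]; congr 1; funext i; simp
      smul := fun σ c v => by rw [← Matrix.mulVec_smul]; congr 1; funext i; simp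
      mul := fun σ τ v => by
        rw [a.2 σ τ, Units.val_mul, ← Matrix.mulVec_mulVec]
        congr 1
        show ((a τ : Matrix (Fin n) (Fin n) K).map σ).mulVec _ = _
        funext i
        simp [Matrix.mulVec, dotProduct, map_sum]
      one := fun v => by
        have h := a.2 1 1
        rw [one_smul, mul_one, left_eq_mul] at h
        rw [h, Units.val_one, Matrix.one_mulVec]; rfl }
  let F : Submodule k (Fin n → K) :=
    { carrier := {v | ∀ σ, S.T σ v = v}
      zero_mem' := fun σ => S.zero σ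
      add_mem' := fun {v w} hv hw σ => by rw [S.add, hv σ, hw σ]
      smul_mem' := fun r v hv σ => by rw [← algebraMap_smul K r v, S.smul, AlgEquiv.commutes, hv σ] }
  have hW : ∀ m, m ∈ LinearMap.range F.subtype ↔ ∀ σ, S.T σ m = m := fun m => by
    rw [Submodule.range_subtype]; rfl
  let e := descEquiv S F.subtype F.injective_subtype hW
  have hfr : Module.finrank k F = n := by
    have := e.finrank_eq
    rwa [Module.finrank_baseChange, Module.finrank_pi, Fintype.card_fin] at this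
  let b : Module.Basis (Fin n) k F := Module.finBasisOfFinrankEq k F hfr
  let bK : Module.Basis (Fin n) K (Fin n → K) := (Algebra.TensorProduct.basis K b).map e
  have hbK : ∀ j, bK j = (b j : Fin n → K) := fun j => by
    simp only [bK, Module.Basis.map_apply, Algebra.TensorProduct.basis_apply]
    rw [descEquiv_tmul, one_smul]; rfl
  let P : Matrix (Fin n) (Fin n) K := (Pi.basisFun K (Fin n)).toMatrix bK
  haveI : Invertible P := (Pi.basisFun K (Fin n)).invertibleToMatrix bK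
  let Pu : GL (Fin n) K := unitOfInvertible P
  refine ⟨Pu⁻¹, fun σ => ?_⟩
  show a σ = Pu⁻¹⁻¹ * 1 * σ • Pu⁻¹
  rw [inv_inv, mul_one, smul_inv', eq_mul_inv_iff_mul_eq]
  apply Units.ext
  show (a σ : Matrix (Fin n) (Fin n) K) * P.map σ = P
  ext i j
  have h := congrFun ((hW (b j : Fin n → K)).mp ⟨b j, rfl⟩ σ) i
  simp only [S, Matrix.mulVec, dotProduct] at h
  simp only [Matrix.mul_apply, Matrix.map_apply, P, Module.Basis.toMatrix_apply, Pi.basisFun_repr, hbK]
  exact h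

theorem sl_coboundary {K L : Type u} [Field K] [Field L] [Algebra K L] [FiniteDimensional K L] [IsGalois K L] (n : ℕ)
    (B : (L ≃ₐ[K] L) → GL (Fin n) L)
    (hB : ∀ σ τ : L ≃ₐ[K] L,
      (B σ : Matrix (Fin n) (Fin n) L) * (B τ : Matrix (Fin n) (Fin n) L).map σ =
        (B (σ * τ) : Matrix (Fin n) (Fin n) L))
    (hdet : ∀ σ : L ≃ₐ[K] L, Matrix.det (B σ : Matrix (Fin n) (Fin n) L) = 1) :
    ∃ A : GL (Fin n) L, Matrix.det (A : Matrix (Fin n) (Fin n) L) = 1 ∧ ∀ σ : L ≃ₐ[K] L,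
      (B σ : Matrix (Fin n) (Fin n) L) =
        ((A⁻¹ : GL (Fin n) L) : Matrix (Fin n) (Fin n) L) * (A : Matrix (Fin n) (Fin n) L).map σ := by
  classical
  let a : GpH1.OneCocycle (L ≃ₐ[K] L) (GL (Fin n) L) :=
    ⟨B, fun σ τ => Units.ext (hB σ τ).symm⟩
  obtain ⟨A0, hA0⟩ := (GpH1.OneCocycle.cl_eq_cl_iff _ _).mp (gl_trivial K L n a.cl)
  have hB' : ∀ σ : L ≃ₐ[K] L, (B σ : Matrix (Fin n) (Fin n) L) =
      ((A0⁻¹ : GL (Fin n) L) : Matrix (Fin n) (Fin n) L) * (A0 : Matrix (Fin n) (Fin n) L).map σ := fun σ => by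
    have h := congrArg (fun g : GL (Fin n) L => (g : Matrix (Fin n) (Fin n) L)) (hA0 σ)
    simp only [Units.val_mul] at h
    refine h.trans ?_
    show _ * (1 : Matrix (Fin n) (Fin n) L) * _ = _
    rw [mul_one]; rfl
  rcases Nat.eq_zero_or_pos n with rfl | hn
  · exact ⟨1, by simp, fun σ => Subsingleton.elim _ _⟩
  set d := Matrix.det (A0 : Matrix (Fin n) (Fin n) L)
  have hd0 : d ≠ 0 := ((Matrix.isUnit_iff_isUnit_det _).mp A0.isUnit).ne_zero
  have hdfix : ∀ σ : L ≃ₐ[K] L, σ d = d := fun σ => by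
    have h := congrArg Matrix.det (hB' σ)
    rw [hdet, Matrix.det_mul, Matrix.coe_units_inv, Matrix.det_nonsing_inv, Ring.inverse_eq_inv'] at h
    have h2 : ((A0 : Matrix (Fin n) (Fin n) L).map σ).det = σ d := ((σ : L →+* L).map_det _).symm
    rw [h2] at h
    field_simp at h
    exact (div_eq_one_iff_eq hd0).mp h.symm
  obtain ⟨r, hr⟩ := Algebra.IsInvariant.isInvariant (A := K) (B := L) (G := L ≃ₐ[K] L) d hdfix
  let Dm : Matrix (Fin n) (Fin n) L := Matrix.diagonal (Function.update (fun _ => (1 : L)) ⟨0, hn⟩ d⁻¹)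
  have hDdet : Dm.det = d⁻¹ := by
    simp [Dm, Matrix.det_diagonal, Finset.prod_update_of_mem]
  have hDu : IsUnit Dm := by rw [Matrix.isUnit_iff_isUnit_det, hDdet]; simp [hd0]
  refine ⟨hDu.unit * A0, ?_, fun σ => ?_⟩
  · rw [Units.val_mul, Matrix.det_mul, IsUnit.unit_spec, hDdet, inv_mul_cancel₀ hd0]
  · have hDσ : Dm.map σ = Dm := by
      ext i j
      simp only [Dm, Matrix.map_apply, Matrix.diagonal_apply]
      split_ifs with h
      · by_cases hi : i = ⟨0, hn⟩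
        · rw [hi, Function.update_self, map_inv₀, hdfix]
        · rw [Function.update_of_ne hi, map_one]
      · simp
    rw [mul_inv_rev, Units.val_mul, Units.val_mul, IsUnit.unit_spec, Matrix.map_mul, hDσ, mul_assoc,
      ← mul_assoc _ Dm, IsUnit.val_inv_mul, one_mul, ← hB']

end GLn

end Groth.Agent.Desc8
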