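import Mathlib

set_option autoImplicit false
universe u v w t

namespace Groth.Agent.Desc8

variable {S : Type u} [Ring S] {X : Type v} [AddCommGroup X] [Module S X] {Y : Type w} [AddCommGroup Y] [Module S Y]
  [Finite X] [Finite Y]

/-- Lovász: finite modules are determined by the numbers of maps into them. -/
theorem inj_count (h : ∀ (T : Type t) [AddCommGroup T] [Module S T] [Finite T],
      Nat.card (T →ₗ[S] X) = Nat.card (T →ₗ[S] Y)) (N : ℕ) :
    ∀ (T : Type t) [AddCommGroup T] [Module S T] [Finite T], Nat.card T = N →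
      Nat.card {f : T →ₗ[S] X // Function.Injective f} = Nat.card {f : T →ₗ[S] Y // Function.Injective f} := by
  classical
  induction N using Nat.strong_induction_on with
  | _ N ih =>
    intro T _ _ _ hT
    haveI : Finite (Submodule S T) := Finite.of_injective (fun U => (U : Set T)) SetLike.coe_injective
    haveI : Fintype (Submodule S T) := Fintype.ofFinite _
    have fib : ∀ (Z : Type (max v w)) [AddCommGroup Z] [Module S Z] (U : Submodule S T),
        Nat.card {f : T →ₗ[S] Z // LinearMap.ker f = U} = Nat.card {g : (T ⧸ U) →ₗ[S] Z // Function.Injective g} := by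
      intro Z _ _ U
      refine Nat.card_congr
        { toFun := fun f => ⟨U.liftQ f.1 f.2.ge, by
            rw [← LinearMap.ker_eq_bot]; exact Submodule.ker_liftQ_eq_bot _ _ _ f.2.le⟩
          invFun := fun g => ⟨g.1.comp U.mkQ, by
            rw [LinearMap.ker_comp, LinearMap.ker_eq_bot.mpr g.2, Submodule.comap_bot, Submodule.ker_mkQ]⟩
          left_inv := fun f => Subtype.ext (Submodule.liftQ_mkQ _ _ _)
          right_inv := fun g => Subtype.ext (Submodule.linearMap_qext _ (Submodule.liftQ_mkQ _ _ _)) }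
    have split : ∀ (Z : Type (max v w)) [AddCommGroup Z] [Module S Z] [Finite Z],
        Nat.card (T →ₗ[S] Z) = Nat.card {f : T →ₗ[S] Z // Function.Injective f} +
          ∑ U ∈ (Finset.univ : Finset (Submodule S T)).erase ⊥,
            Nat.card {g : (T ⧸ U) →ₗ[S] Z // Function.Injective g} := by
      intro Z _ _ _
      haveI : Finite (T →ₗ[S] Z) := Finite.of_injective (fun f => (f : T → Z)) DFunLike.coe_injective
      rw [← Nat.card_congr (Equiv.sigmaFiberEquiv (fun f : T →ₗ[S] Z => LinearMap.ker f)), Nat.card_sigma,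
        ← Finset.add_sum_erase _ _ (Finset.mem_univ (⊥ : Submodule S T))]
      refine congrArg₂ (· + ·) (Nat.card_congr (Equiv.subtypeEquivRight fun f => LinearMap.ker_eq_bot)) ?_
      exact Finset.sum_congr rfl fun U _ => fib Z U
    let eX : (ULift.{w} X) ≃ₗ[S] X := ULift.moduleEquiv
    let eY : (ULift.{v} Y) ≃ₗ[S] Y := ULift.moduleEquiv
    have h1 := split (ULift.{w} X)
    have h2 := split (ULift.{v} Y)
    have cX : ∀ (U : Type t) [AddCommGroup U] [Module S U],
        Nat.card (U →ₗ[S] ULift.{w} X) = Nat.card (U →ₗ[S] X) ∧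
        Nat.card {f : U →ₗ[S] ULift.{w} X // Function.Injective f} = Nat.card {f : U →ₗ[S] X // Function.Injective f} := by
      intro U _ _
      let e : (U →ₗ[S] ULift.{w} X) ≃ (U →ₗ[S] X) :=
        ⟨fun f => eX.toLinearMap.comp f, fun f => eX.symm.toLinearMap.comp f,
          fun f => LinearMap.ext fun z => eX.symm_apply_apply _, fun f => LinearMap.ext fun z => eX.apply_symm_apply _⟩
      exact ⟨Nat.card_congr e, Nat.card_congr (e.subtypeEquiv fun f =>
        (eX.injective.of_comp_iff (f : U → ULift.{w} X)).symm)⟩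
    have cY : ∀ (U : Type t) [AddCommGroup U] [Module S U],
        Nat.card (U →ₗ[S] ULift.{v} Y) = Nat.card (U →ₗ[S] Y) ∧
        Nat.card {f : U →ₗ[S] ULift.{v} Y // Function.Injective f} = Nat.card {f : U →ₗ[S] Y // Function.Injective f} := by
      intro U _ _
      let e : (U →ₗ[S] ULift.{v} Y) ≃ (U →ₗ[S] Y) :=
        ⟨fun f => eY.toLinearMap.comp f, fun f => eY.symm.toLinearMap.comp f,
          fun f => LinearMap.ext fun z => eY.symm_apply_apply _, fun f => LinearMap.ext fun z => eY.apply_symm_apply _⟩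
      exact ⟨Nat.card_congr e, Nat.card_congr (e.subtypeEquiv fun f =>
        (eY.injective.of_comp_iff (f : U → ULift.{v} Y)).symm)⟩
    rw [(cX T).1] at h1
    rw [(cY T).1] at h2
    rw [← (cX T).2, ← (cY T).2]
    have hsum : ∑ U ∈ (Finset.univ : Finset (Submodule S T)).erase ⊥,
          Nat.card {g : (T ⧸ U) →ₗ[S] ULift.{w} X // Function.Injective g} =
        ∑ U ∈ (Finset.univ : Finset (Submodule S T)).erase ⊥,
          Nat.card {g : (T ⧸ U) →ₗ[S] ULift.{v} Y // Function.Injective g} := by
      refine Finset.sum_congr rfl fun U hU => ?_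
      rw [(cX _).2, (cY _).2]
      haveI : Finite (T ⧸ U) := Finite.of_surjective _ (Submodule.mkQ_surjective U)
      refine ih (Nat.card (T ⧸ U)) ?_ _ rfl
      have hne : Nontrivial U := Submodule.nontrivial_iff_ne_bot.mpr (Finset.ne_of_mem_erase hU)
      have hU1 : 1 < Nat.card U := Finite.one_lt_card
      have hQ : 0 < Nat.card (T ⧸ U) := Nat.card_pos
      rw [← hT, Submodule.card_eq_card_quotient_mul_card U]
      nlinarith
    have := h T
    omega

theorem iso_of_pow_iso {n : ℕ} (hn : n ≠ 0) (e : (Fin n → X) ≃ₗ[S] (Fin n → Y)) : Nonempty (X ≃ₗ[S] Y) := by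
  classical
  have h : ∀ (T : Type v) [AddCommGroup T] [Module S T] [Finite T],
      Nat.card (T →ₗ[S] X) = Nat.card (T →ₗ[S] Y) := by
    intro T _ _ _
    let eX : (T →ₗ[S] (Fin n → X)) ≃ (Fin n → (T →ₗ[S] X)) :=
      ⟨fun f i => (LinearMap.proj i).comp f, LinearMap.pi, fun f => rfl, fun f => rfl⟩
    let eY : (T →ₗ[S] (Fin n → Y)) ≃ (Fin n → (T →ₗ[S] Y)) :=
      ⟨fun f i => (LinearMap.proj i).comp f, LinearMap.pi, fun f => rfl, fun f => rfl⟩
    let eT : (T →ₗ[S] (Fin n → X)) ≃ (T →ₗ[S] (Fin n → Y)) :=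
      ⟨fun f => e.toLinearMap.comp f, fun f => e.symm.toLinearMap.comp f,
        fun f => LinearMap.ext fun z => e.symm_apply_apply _, fun f => LinearMap.ext fun z => e.apply_symm_apply _⟩
    have := Nat.card_congr (eX.symm.trans (eT.trans eY))
    rw [Nat.card_fun, Nat.card_fun, Nat.card_fin] at this
    exact Nat.pow_left_injective hn this
  have h1 := inj_count h _ X rfl
  haveI : Finite (X →ₗ[S] X) := Finite.of_injective (fun f => (f : X → X)) DFunLike.coe_injective
  haveI : Nonempty {f : X →ₗ[S] X // Function.Injective f} := ⟨⟨LinearMap.id, Function.injective_id⟩⟩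
  have h2 : 0 < Nat.card {f : X →ₗ[S] Y // Function.Injective f} := h1 ▸ Nat.card_pos
  obtain ⟨f, hf⟩ := (Nat.card_pos_iff.mp h2).1
  have hc : Nat.card X = Nat.card Y := by
    have := Nat.card_congr e.toEquiv
    rw [Nat.card_fun, Nat.card_fun, Nat.card_fin] at this
    exact Nat.pow_left_injective hn this
  exact ⟨LinearEquiv.ofBijective f ((Nat.bijective_iff_injective_and_card f).mpr ⟨hf, hc⟩)⟩

end Groth.Agent.Desc8
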