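import Groth.Agent.Desc8.Basic
import Groth.Agent.Desc8.Lovasz
import Groth.Prelude.Def_GSzCSA

set_option autoImplicit false
universe u v w x

open scoped TensorProduct

namespace Groth.Agent.Desc8

variable {k : Type u} [Field k] {K : Type v} [Field K] [Algebra k K]
variable {R : Type w} [Ring R] [Algebra K R] [FiniteDimensional K R]

theorem unit_of_right_gen (K : Type v) [Field K] {R : Type w} [Ring R] [Algebra K R] [FiniteDimensional K R] {w : R} (h : Function.Surjective fun x => w * x) : IsUnit w := by
  have hinj : Function.Injective (LinearMap.mulLeft K w) := LinearMap.injective_iff_surjective.mpr h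
  obtain ⟨v, hv⟩ := h 1
  refine ⟨⟨w, v, hv, hinj ?_⟩, rfl⟩
  show w * (v * w) = w * 1
  rw [← mul_assoc, show w * v = 1 from hv, one_mul, mul_one]

/-- the infinite-field case: a Zariski-density argument -/
theorem exists_unit_infinite [Infinite k] {m : ℕ} (w : Fin m → R) (h : (1 : R) ∈ Submodule.span K (Set.range w)) :
    ∃ c : Fin m → k, IsUnit (∑ i, algebraMap k K (c i) • w i) := by
  classical
  obtain ⟨c₀, hc₀⟩ := (Submodule.mem_span_range_iff_exists_fun K).mp h
  let b := Module.finBasis K R
  let L : Fin m → Matrix _ _ K := fun i => LinearMap.toMatrix b b (LinearMap.mulLeft K (w i))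
  let P : MvPolynomial (Fin m) K :=
    Matrix.det (∑ i, (MvPolynomial.X i : MvPolynomial (Fin m) K) • (L i).map MvPolynomial.C)
  have heval : ∀ c : Fin m → K, MvPolynomial.eval c P =
      LinearMap.det (LinearMap.mulLeft K (∑ i, c i • w i)) := by
    intro c
    rw [← LinearMap.det_toMatrix b, RingHom.map_det]
    congr 1
    ext p q
    simp [L, RingHom.mapMatrix_apply, Matrix.sum_apply, LinearMap.toMatrix_apply, LinearMap.mulLeft_apply,
      Finset.sum_mul, Finset.sum_apply', map_sum, Algebra.leftMulMatrix_eq_repr_mul]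
  have hP : P ≠ 0 := fun h0 => by
    have h1 := heval c₀
    rw [h0, map_zero, hc₀] at h1
    exact one_ne_zero (α := K) (by rw [h1, LinearMap.mulLeft_one, LinearMap.det_id])
  obtain ⟨c, hc⟩ : ∃ c : Fin m → k, MvPolynomial.eval (fun i => algebraMap k K (c i)) P ≠ 0 := by
    by_contra! hall
    refine hP (MvPolynomial.funext_set (fun _ => Set.range (algebraMap k K))
      (fun _ => Set.infinite_range_of_injective (algebraMap k K).injective) fun z hz => ?_)
    choose c hc using fun i => hz i (Set.mem_univ i)
    rw [map_zero, show z = fun i => algebraMap k K (c i) from funext fun i => (hc i).symm]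
    exact hall c
  refine ⟨c, ?_⟩
  rw [heval] at hc
  obtain ⟨u, hu⟩ := (LinearMap.isUnit_iff_isUnit_det _).mpr (isUnit_iff_ne_zero.mpr hc)
  refine unit_of_right_gen K fun z => ⟨(↑u⁻¹ : Module.End K R) z, ?_⟩
  show LinearMap.mulLeft K (∑ i, algebraMap k K (c i) • w i) ((↑u⁻¹ : Module.End K R) z) = z
  rw [← hu, ← Module.End.mul_apply, Units.mul_inv, Module.End.one_apply]

section Main

attribute [local instance] CSAGal.tensorAction GpH1.unitsAction

variable [FiniteDimensional k K] {A : Type x} [Ring A] [Algebra k A] [FiniteDimensional k A]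

/-- `(w_i) ↦ ∑ b_i • w_i`, for a `k`-linear map `ι` whose image spans over `K`, is bijective -/
theorem coord_bijective {M : Type*} [AddCommGroup M] [Module k M] [FiniteDimensional k M]
    (ι : M →ₗ[k] K ⊗[k] A) (hs : ∀ z : K ⊗[k] A, z ∈ Submodule.span K (Set.range ι))
    (hd : Module.finrank k M = Module.finrank k A) :
    Function.Bijective (fun v : Fin (Module.finrank k K) → M => ∑ i, (Module.finBasis k K) i • ι (v i)) := by
  classical
  let b := Module.finBasis k K
  let L : (Fin (Module.finrank k K) → M) →ₗ[k] K ⊗[k] A :=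
    { toFun := fun v => ∑ i, b i • ι (v i)
      map_add' := fun p q => by simp [Finset.sum_add_distrib]
      map_smul' := fun r p => by
        simp only [Pi.smul_apply, map_smul, RingHom.id_apply, Finset.smul_sum]
        exact Finset.sum_congr rfl fun i _ => smul_comm _ _ _ }
  have hsurj : Function.Surjective L := by
    intro z
    obtain ⟨l, rfl⟩ := Finsupp.mem_span_range_iff_exists_finsupp.mp (hs z)
    refine ⟨fun i => l.sum fun m c => b.repr c i • m, ?_⟩
    show ∑ i, b i • ι (l.sum fun m c => b.repr c i • m) = _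
    simp only [Finsupp.sum, map_sum, map_smul, Finset.smul_sum]
    rw [Finset.sum_comm]
    refine Finset.sum_congr rfl fun m _ => ?_
    conv_rhs => rw [← b.sum_repr (l m), Finset.sum_smul]
    exact Finset.sum_congr rfl fun i _ => by rw [smul_assoc, smul_comm]
  have hinj : Function.Injective L := (LinearMap.injective_iff_surjective_of_finrank_eq_finrank (by
    rw [Module.finrank_pi_fintype, Finset.sum_const, Finset.card_univ, Fintype.card_fin, smul_eq_mul, hd,
      Module.finrank_tensorProduct])).mpr hsurj
  exact ⟨hinj, hsurj⟩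

theorem units_trivial [IsGalois k K] : GpH1.H1.IsTrivial (K ≃ₐ[k] K) (K ⊗[k] A)ˣ := by
  classical
  intro z
  obtain ⟨a, rfl⟩ := GpH1.OneCocycle.cl_surjective z
  rw [GpH1.H1.pt, GpH1.OneCocycle.cl_eq_cl_iff]
  let S : SemiAction k K (K ⊗[k] A) :=
    { T := fun σ m => (a σ : K ⊗[k] A) * σ • m
      add := fun σ m n => by rw [smul_add, mul_add]
      smul := fun σ c m => by
        rw [smul_distrib_smul, mul_smul_comm, AlgEquiv.smul_def]
      mul := fun σ τ m => by
        rw [a.2 σ τ, Units.val_mul, mul_assoc, smul_mul', mul_smul]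
        rfl
      one := fun m => by
        have h := a.2 1 1
        rw [one_smul, mul_one, left_eq_mul] at h
        rw [one_smul, h, Units.val_one, one_mul] }
  let W : Submodule k (K ⊗[k] A) :=
    { carrier := {m | ∀ σ, S.T σ m = m}
      zero_mem' := fun σ => S.zero σ
      add_mem' := fun {p q} hp hq σ => by rw [S.add, hp σ, hq σ]
      smul_mem' := fun r p hp σ => by rw [← algebraMap_smul K r p, S.smul, AlgEquiv.commutes, hp σ] }
  have hW : ∀ m, m ∈ LinearMap.range W.subtype ↔ ∀ σ, S.T σ m = m := fun m => by
    rw [Submodule.range_subtype]; rfl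
  let e := descEquiv S W.subtype W.injective_subtype hW
  have hspan : ∀ m : K ⊗[k] A, m ∈ Submodule.span K (Set.range W.subtype) := by
    intro m
    obtain ⟨t, rfl⟩ := e.surjective m
    induction t using TensorProduct.induction_on with
    | zero => simp
    | tmul c w => rw [descEquiv_tmul]; exact Submodule.smul_mem _ _ (Submodule.subset_span ⟨w, rfl⟩)
    | add p q hp hq => rw [map_add]; exact add_mem hp hq
  obtain ⟨u, huW, hu⟩ : ∃ u ∈ W, IsUnit u := by
    rcases finite_or_infinite k with hk | hk
    · haveI : FiniteDimensional k (K ⊗[k] A) := inferInstance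
      haveI : Finite (K ⊗[k] A) := Module.finite_of_finite k
      haveI : Finite A := Module.finite_of_finite k
      have hdim : Module.finrank k W = Module.finrank k A := by
        haveI : Module.Free k W := Module.Free.of_divisionRing k W
        have := e.finrank_eq
        rwa [Module.finrank_baseChange, Module.finrank_baseChange] at this
      letI : Module Aᵐᵒᵖ (K ⊗[k] A) := Module.compHom (K ⊗[k] A)
        ((Algebra.TensorProduct.includeRight : A →ₐ[k] K ⊗[k] A).toRingHom.op)
      have hsm : ∀ (r : Aᵐᵒᵖ) (m : K ⊗[k] A), r • m = m * ((1 : K) ⊗ₜ[k] r.unop) := fun _ _ => rfl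
      let W' : Submodule Aᵐᵒᵖ (K ⊗[k] A) :=
        { carrier := {m | ∀ σ, S.T σ m = m}
          zero_mem' := fun σ => S.zero σ
          add_mem' := fun {p q} hp hq σ => by rw [S.add, hp σ, hq σ]
          smul_mem' := fun r p hp σ => by
            show (a σ : K ⊗[k] A) * σ • (r • p) = r • p
            rw [hsm, smul_mul', TensorProduct.smul_tmul', smul_one, ← mul_assoc]
            exact congrArg (· * _) (hp σ) }
      let LW : (Fin (Module.finrank k K) → W') →ₗ[Aᵐᵒᵖ] K ⊗[k] A :=
        { toFun := fun v => ∑ i, (Module.finBasis k K) i • (v i : K ⊗[k] A)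
          map_add' := fun p q => by simp [Finset.sum_add_distrib]
          map_smul' := fun r p => by
            simp only [RingHom.id_apply, hsm, Finset.sum_mul, smul_mul_assoc, Pi.smul_apply, Submodule.coe_smul] }
      let LA : (Fin (Module.finrank k K) → A) →ₗ[Aᵐᵒᵖ] K ⊗[k] A :=
        { toFun := fun v => ∑ i, (Module.finBasis k K) i • ((1 : K) ⊗ₜ[k] v i)
          map_add' := fun p q => by simp [TensorProduct.tmul_add, Finset.sum_add_distrib]
          map_smul' := fun r p => by
            simp only [RingHom.id_apply, hsm, Finset.sum_mul, smul_mul_assoc, Pi.smul_apply, MulOpposite.smul_eq_mul_unop,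
              Algebra.TensorProduct.tmul_mul_tmul, one_mul] }
      have hbW : Function.Bijective LW := coord_bijective W.subtype hspan hdim
      have hbA : Function.Bijective LA :=
        coord_bijective (Algebra.TensorProduct.includeRight : A →ₐ[k] K ⊗[k] A).toLinearMap (fun m => by
          induction m using TensorProduct.induction_on with
          | zero => simp
          | tmul c r =>
            rw [show c ⊗ₜ[k] r = c • ((1 : K) ⊗ₜ[k] r) by rw [TensorProduct.smul_tmul', smul_eq_mul, mul_one]]
            exact Submodule.smul_mem _ _ (Submodule.subset_span ⟨r, rfl⟩)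
          | add p q hp hq => exact add_mem hp hq) rfl
      obtain ⟨φ⟩ := iso_of_pow_iso (X := A) (Y := W') Module.finrank_pos.ne'
        ((LinearEquiv.ofBijective LA hbA).trans (LinearEquiv.ofBijective LW hbW).symm)
      refine ⟨(φ 1 : W'), (φ 1).2, unit_of_right_gen K ?_⟩
      have hgen : ∀ w : W', ∃ r : A, ((φ 1 : W') : K ⊗[k] A) * ((1 : K) ⊗ₜ[k] r) = (w : K ⊗[k] A) := fun w => by
        refine ⟨φ.symm w, ?_⟩
        have h1 : MulOpposite.op (φ.symm w) • (1 : A) = φ.symm w := one_mul _
        have h2 := congrArg Subtype.val (map_smul φ (MulOpposite.op (φ.symm w)) 1)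
        rw [h1, φ.apply_symm_apply] at h2
        rw [Submodule.coe_smul, hsm, MulOpposite.unop_op] at h2
        exact h2.symm
      intro m
      refine (LinearMap.range (LinearMap.mulLeft K ((φ 1 : W') : K ⊗[k] A))).mem_carrier.mp ?_
      refine Submodule.span_le.mpr ?_ (hspan m)
      rintro _ ⟨w, rfl⟩
      obtain ⟨r, hr⟩ := hgen ⟨w.1, w.2⟩
      exact ⟨_, hr⟩
    · let b := Module.finBasis k W
      have h1 : (1 : K ⊗[k] A) ∈ Submodule.span K (Set.range fun i => (b i : K ⊗[k] A)) := by
        refine Submodule.span_le.mpr ?_ (hspan 1)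
        rintro _ ⟨w, rfl⟩
        rw [← b.sum_repr w, map_sum]
        exact sum_mem fun i _ => by
          rw [map_smul, ← algebraMap_smul K]
          exact Submodule.smul_mem _ _ (Submodule.subset_span ⟨i, rfl⟩)
      obtain ⟨c, hc⟩ := exists_unit_infinite (k := k) _ h1
      refine ⟨_, sum_mem fun i _ => ?_, hc⟩
      rw [algebraMap_smul]
      exact W.smul_mem _ (b i).2
  obtain ⟨u, rfl⟩ := hu
  refine ⟨u⁻¹, fun σ => ?_⟩
  show a σ = u⁻¹⁻¹ * 1 * σ • u⁻¹
  rw [inv_inv, mul_one, smul_inv', eq_mul_inv_iff_mul_eq]
  exact Units.ext (huW σ)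

end Main

end Groth.Agent.Desc8
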